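import Cfsg.Agent.Mrg.Omega.TwoF.RkPSU
import Cfsg.Agent.Mrg.Omega.TwoF.Bridge
import Cfsg.Agent.Lib.Zsigmondy
import Cfsg.Agent.S0280
import Cfsg.Agent.Mrg.Omega.TwoF.RowLU
import Cfsg.Agent.Omega.TwoF.Defs
import Mathlib
import Cfsg.Agent.Mrg.Omega.EH3.Perm
import Cfsg.Agent.Omega.EH3.Row

-- merged: Cfsg.Agent.Mrg.Omega.EH3.Rank1.RkUThree
section

section


/-!
# EH3: elementary abelian 2-subgroups of `Aut (PSU₃(q))`, `q` even (helper234)

* `parallel` : orthogonal isotropic vectors of the 3-dimensional unitary space are proportional;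
* `card_le_of_comm` : pairwise commuting elements of `GU₃(q)` with square 1: at most `q`;
* `rkAut` : an elementary abelian 2-subgroup of `Aut (PSU₃(q))` has order at most `2 q`.
-/

set_option autoImplicit false
set_option linter.unusedSectionVars false

namespace Cfsg.Agent.Omega.EH3.Rank1.UThree

open Cfsg Matrix Cfsg.Agent.Omega.TwoF Cfsg.Agent.Omega.TwoF.RkLin Cfsg.Agent.Omega.TwoF.RkPSL
open Cfsg.Agent.Omega.TwoF.RkPSU
open Cfsg.Agent.LieClassical.HermBasic
open Cfsg.Agent.ClassicalGeometry.PSUAutCount (gm toAut gm_mul gm_one gm_mul_inv gm_inv_mul eq_of_toAut_eq gm_inj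
  herm_gm sc gm_sc_mul toAut_sc_mul)
open Cfsg.Agent.Schreier.PSU (f₁ f₂ toAut_eq mapGU conj_field)

variable {F : Type*} [Field F] [Fintype F] {q : ℕ}

theorem minors {x0 x1 x2 y0 y1 y2 X0 X1 X2 Y0 Y1 Y2 : F} (a : x0 * X0 + x1 * X1 + x2 * X2 = 0)
    (b : x0 * Y0 + x1 * Y1 + x2 * Y2 = 0) (c : y0 * X0 + y1 * X1 + y2 * X2 = 0)
    (d : y0 * Y0 + y1 * Y1 + y2 * Y2 = 0) :
    (x0 * y1 - x1 * y0) ^ 2 * (X0 * Y1 - X1 * Y0) = 0 := by
  have h1 : (x0 * y1 - x1 * y0) * X0 = (x1 * y2 - x2 * y1) * X2 := by linear_combination y1 * a - x1 * c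
  have h2 : (x0 * y1 - x1 * y0) * X1 = (x2 * y0 - x0 * y2) * X2 := by linear_combination x0 * c - y0 * a
  have h3 : (x0 * y1 - x1 * y0) * Y0 = (x1 * y2 - x2 * y1) * Y2 := by linear_combination y1 * b - x1 * d
  have h4 : (x0 * y1 - x1 * y0) * Y1 = (x2 * y0 - x0 * y2) * Y2 := by linear_combination x0 * d - y0 * b
  linear_combination ((x0 * y1 - x1 * y0) * Y1) * h1 + (x1 * y2 - x2 * y1) * X2 * h4
    - ((x0 * y1 - x1 * y0) * Y0) * h2 - (x2 * y0 - x0 * y2) * X2 * h3

/-- orthogonal isotropic vectors are proportional -/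
theorem parallel (hF : Fintype.card F = q ^ 2) {u v : Fin 3 → F} (hu : hermForm 3 F q u u = 0)
    (hv : hermForm 3 F q v v = 0) (huv : hermForm 3 F q u v = 0) (h0 : u ≠ 0) : ∃ c : F, v = c • u := by
  have hvu : hermForm 3 F q v u = 0 := herm_eq_zero_swap hF huv
  rw [herm_def, Fin.sum_univ_three] at hu hv huv hvu
  have key : ∀ {x y : F} (X Y : F) , (x * Y - y * X) ^ 2 * (x ^ q * Y ^ q - y ^ q * X ^ q) = 0 → x * Y - y * X = 0 := by
    intro x y X Y h
    rcases mul_eq_zero.1 h with h1 | h1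
    · exact pow_eq_zero_iff (two_ne_zero) |>.1 h1
    · rw [← mul_pow, ← mul_pow, ← sub_pow_q hF] at h1
      exact (pow_q_eq_zero hF).1 h1
  have m01 : u 0 * v 1 - u 1 * v 0 = 0 := key _ _ (minors hu huv hvu hv)
  have m12 : u 1 * v 2 - u 2 * v 1 = 0 := key _ _ (minors (x2 := u 0) (y2 := v 0) (X2 := u 0 ^ q) (Y2 := v 0 ^ q)
    (by linear_combination hu) (by linear_combination huv) (by linear_combination hvu) (by linear_combination hv))
  have m20 : u 2 * v 0 - u 0 * v 2 = 0 := key _ _ (minors (x2 := u 1) (y2 := v 1) (X2 := u 1 ^ q) (Y2 := v 1 ^ q)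
    (by linear_combination hu) (by linear_combination huv) (by linear_combination hvu) (by linear_combination hv))
  obtain ⟨i, hi⟩ : ∃ i, u i ≠ 0 := by
    by_contra hcon
    push Not at hcon
    exact h0 (funext hcon)
  have hmin : ∀ i j, u i * v j = u j * v i := by
    intro i j
    fin_cases i <;> fin_cases j
    · rfl
    · show u 0 * v 1 = u 1 * v 0
      linear_combination m01
    · show u 0 * v 2 = u 2 * v 0
      linear_combination -m20
    · show u 1 * v 0 = u 0 * v 1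
      linear_combination -m01
    · rfl
    · show u 1 * v 2 = u 2 * v 1
      linear_combination m12
    · show u 2 * v 0 = u 0 * v 2
      linear_combination m20
    · show u 2 * v 1 = u 1 * v 2
      linear_combination -m12
    · rfl
  refine ⟨v i / u i, ?_⟩
  ext j
  rw [Pi.smul_apply, smul_eq_mul, div_mul_eq_mul_div, eq_div_iff hi]
  linear_combination hmin i j

/-- `N = g + 1` -/
def NN (A : GU 3 F q) (x : Fin 3 → F) : Fin 3 → F := gm A *ᵥ x + x

theorem add_self' (h2 : (2 : F) = 0) (x : Fin 3 → F) : x + x = 0 := by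
  ext i
  show x i + x i = 0
  linear_combination x i * h2

theorem NN_smul (A : GU 3 F q) (c : F) (x : Fin 3 → F) : NN A (c • x) = c • NN A x := by
  unfold NN
  rw [mulVec_smul, smul_add]

theorem gm_gm {A : GU 3 F q} (hA : gm A * gm A = 1) (x : Fin 3 → F) : gm A *ᵥ (gm A *ᵥ x) = x := by
  rw [mulVec_mulVec, hA, one_mulVec]

theorem NN_NN (h2 : (2 : F) = 0) {A : GU 3 F q} (hA : gm A * gm A = 1) (x : Fin 3 → F) : NN A (NN A x) = 0 := by
  unfold NN
  rw [mulVec_add, gm_gm hA]
  have h := add_self' h2 (gm A *ᵥ x + x)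
  rw [add_comm x] 
  exact h

/-- self-adjointness -/
theorem herm_NN (hF : Fintype.card F = q ^ 2) {A : GU 3 F q} (hA : gm A * gm A = 1) (x y : Fin 3 → F) :
    hermForm 3 F q (NN A x) y = hermForm 3 F q x (NN A y) := by
  unfold NN
  rw [herm_add_left, herm_add_right hF]
  congr 1
  rw [← herm_gm A (gm A *ᵥ x) y, gm_gm hA]

theorem herm_NN_NN (hF : Fintype.card F = q ^ 2) (h2 : (2 : F) = 0) {A : GU 3 F q} (hA : gm A * gm A = 1)
    (x y : Fin 3 → F) : hermForm 3 F q (NN A x) (NN A y) = 0 := by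
  rw [herm_NN hF hA, NN_NN h2 hA, herm_zero_right hF]

theorem NN_comm {A B : GU 3 F q} (h : gm A * gm B = gm B * gm A) (x : Fin 3 → F) : NN A (NN B x) = NN B (NN A x) := by
  unfold NN
  rw [mulVec_add, mulVec_add, mulVec_mulVec, mulVec_mulVec, h]
  abel

/-- **pairwise commuting elements with square 1** -/
theorem card_le_of_comm (hF : Fintype.card F = q ^ 2) (h2 : (2 : F) = 0) {ι : Type*} [Finite ι] (A : ι → GU 3 F q)
    (hsq : ∀ i, gm (A i) * gm (A i) = 1) (hcomm : ∀ i j, gm (A i) * gm (A j) = gm (A j) * gm (A i))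
    (hinj : ∀ i j, gm (A i) = gm (A j) → i = j) : Nat.card ι ≤ q := by
  classical
  have hq : 0 < q := q_pos hF
  have heq : ∀ i j, (∀ x, NN (A i) x = NN (A j) x) → i = j := by
    intro i j h
    apply hinj
    apply Matrix.toLin'.injective
    apply LinearMap.ext
    intro x
    rw [Matrix.toLin'_apply, Matrix.toLin'_apply]
    exact add_right_cancel (h x)
  by_cases hall : ∀ i x, NN (A i) x = 0
  · have : Subsingleton ι := ⟨fun i j => heq i j fun x => by rw [hall, hall]⟩
    have h1 := Finite.card_le_one_iff_subsingleton.2 this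
    omega
  push Not at hall
  obtain ⟨i₀, x₀, hv0⟩ := hall
  obtain ⟨v, hv⟩ : ∃ v, v = NN (A i₀) x₀ := ⟨_, rfl⟩
  rw [← hv] at hv0
  have hvv : hermForm 3 F q v v = 0 := by rw [hv]; exact herm_NN_NN hF h2 (hsq i₀) _ _
  -- the image of `N₀`
  have him : ∀ y, ∃ c : F, NN (A i₀) y = c • v := by
    intro y
    refine parallel hF hvv (herm_NN_NN hF h2 (hsq i₀) _ _) ?_ hv0
    rw [hv]
    exact herm_NN_NN hF h2 (hsq i₀) _ _
  -- `N v = 0`
  have hNv : ∀ i, NN (A i) v = 0 := by
    intro i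
    obtain ⟨μ, hμ⟩ := him (NN (A i) x₀)
    have h1 : NN (A i) v = μ • v := by rw [← hμ, hv, NN_comm (hcomm i i₀)]
    have h3 := NN_NN h2 (hsq i) v
    rw [h1, NN_smul, h1, smul_smul] at h3
    have h4 : μ * μ = 0 := (smul_eq_zero.1 h3).resolve_right hv0
    rw [h1, mul_self_eq_zero.1 h4, zero_smul]
  have hpar : ∀ i y, ∃ c : F, NN (A i) y = c • v := by
    intro i y
    refine parallel hF hvv (herm_NN_NN hF h2 (hsq i) _ _) ?_ hv0
    rw [← herm_NN hF (hsq i), hNv, herm_zero_left]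
  choose φ hφ using hpar
  obtain ⟨x₁, hx₁⟩ := exists_herm_ne_zero hF hv0
  have hx₁' : hermForm 3 F q x₁ v ≠ 0 := fun h => hx₁ (herm_eq_zero_swap hF h)
  have hadj : ∀ i y, φ i y ^ q * hermForm 3 F q x₁ v = φ i x₁ * hermForm 3 F q v y := by
    intro i y
    have h1 := herm_NN hF (hsq i) x₁ y
    rw [hφ, hφ, herm_smul_left, herm_smul_right] at h1
    exact h1.symm
  let f : ι → {z : F // z ^ q = z} := fun i => ⟨hermForm 3 F q x₁ (NN (A i) x₁), by
    rw [← herm_swap hF, herm_NN hF (hsq i)]⟩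
  have hf : Function.Injective f := by
    intro i j hij
    have h1 : hermForm 3 F q x₁ (NN (A i) x₁) = hermForm 3 F q x₁ (NN (A j) x₁) := congrArg Subtype.val hij
    rw [hφ, hφ, herm_smul_right, herm_smul_right] at h1
    have h3 : φ i x₁ = φ j x₁ := (pow_q_inj hF).1 (mul_right_cancel₀ hx₁' h1)
    apply heq
    intro x
    rw [hφ, hφ]
    congr 1
    apply (pow_q_inj hF).1
    apply mul_right_cancel₀ hx₁'
    rw [hadj, hadj, h3]
  have h1 := Nat.card_le_card_of_injective f hf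
  rwa [card_fixed hF] at h1

/-- linear automorphisms -/
theorem card_linear (hF : Fintype.card F = q ^ 2) (h2 : (2 : F) = 0) (hq2 : 2 ∣ q)
    (A : Subgroup (MulAut (PSU 3 F q))) (hA : ∀ x ∈ A, x * x = 1)
    (h : ∀ x ∈ A, ∃ C : GU 3 F q, x = toAut C 1) : Nat.card A ≤ q := by
  have := finite_PSU (F := F) (q := q) (n := 3)
  have : Finite (MulAut (PSU 3 F q)) := finite_mulAut _
  obtain ⟨r, hr⟩ := hq2
  -- representatives with square 1
  have hrep : ∀ x : A, ∃ C : GU 3 F q, (x : MulAut (PSU 3 F q)) = toAut C 1 ∧ gm C * gm C = 1 := by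
    rintro ⟨x, hx⟩
    obtain ⟨B, hB⟩ := h x hx
    have h1 : (toAut 1 1 : MulAut (PSU 3 F q)) = toAut (B * B) 1 := by
      rw [toAut_one, toAut_one, map_one, map_mul, ← toAut_one, ← hB, hA x hx]
    obtain ⟨-, c, hc, hc1⟩ := eq_of_toAut_eq hF le_rfl h1
    rw [gm_one, gm_mul] at hc1
    have hc2 : c ^ (2 * r + 1) = 1 := by rw [← hr, pow_succ, mul_comm]; exact hc
    have he : c ^ r * (c ^ r) ^ q = 1 := by
      rw [← pow_mul, mul_comm r q, pow_mul, ← mul_pow, hc, one_pow]
    refine ⟨sc 3 ⟨c ^ r, he⟩ * B, ?_, ?_⟩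
    · rw [toAut_sc_mul]
      exact hB
    · rw [gm_sc_mul, Matrix.smul_mul, Matrix.mul_smul, hc1, smul_smul, smul_smul]
      have h3 : c ^ r * c ^ r * c = 1 := by
        rw [← hc2]
        ring
      show (c ^ r * c ^ r * c) • (1 : Matrix (Fin 3) (Fin 3) F) = 1
      rw [h3, one_smul]
  choose C hC hCsq using hrep
  refine card_le_of_comm hF h2 C hCsq ?_ ?_
  · intro x y
    have hxy : (x : MulAut (PSU 3 F q)) * y = y * x := by
      have h1 : ((x : MulAut (PSU 3 F q)) * y)⁻¹ = x * y := inv_eq_of_mul_eq_one_right (hA _ (A.mul_mem x.2 y.2))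
      have h3 : (x : MulAut (PSU 3 F q))⁻¹ = x := inv_eq_of_mul_eq_one_right (hA _ x.2)
      have h4 : (y : MulAut (PSU 3 F q))⁻¹ = y := inv_eq_of_mul_eq_one_right (hA _ y.2)
      rw [_root_.mul_inv_rev, h3, h4] at h1
      exact h1.symm
    have h1 : (toAut (C x * C y) 1 : MulAut (PSU 3 F q)) = toAut (C y * C x) 1 := by
      rw [toAut_one, toAut_one, map_mul, map_mul, ← toAut_one, ← toAut_one, ← hC, ← hC, hxy]
    obtain ⟨-, c, -, hc⟩ := eq_of_toAut_eq hF le_rfl h1
    rw [gm_mul, gm_mul] at hc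
    -- `b a = c • a b`
    have h3 : gm (C x) = (c * c) • gm (C x) := by
      calc gm (C x) = gm (C y) * (gm (C y) * gm (C x)) := by rw [← Matrix.mul_assoc, hCsq, Matrix.one_mul]
        _ = gm (C y) * (c • (gm (C x) * gm (C y))) := by rw [hc]
        _ = c • ((gm (C y) * gm (C x)) * gm (C y)) := by rw [Matrix.mul_smul, Matrix.mul_assoc]
        _ = c • ((c • (gm (C x) * gm (C y))) * gm (C y)) := by rw [hc]
        _ = (c * c) • gm (C x) := by
            rw [Matrix.smul_mul, Matrix.mul_assoc, hCsq, Matrix.mul_one, smul_smul]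
    have h4 : (c * c) • (1 : Matrix (Fin 3) (Fin 3) F) = 1 := by
      have h5 := congrArg (fun M => M * gm (C x)) h3
      simp only [Matrix.smul_mul, hCsq] at h5
      exact h5.symm
    have h5 : c * c = 1 := by
      have h6 := congrFun (congrFun h4 0) 0
      rw [Matrix.smul_apply, Matrix.one_apply_eq, smul_eq_mul, mul_one] at h6
      exact h6
    have h6 : c = 1 := by
      have h7 : (c - 1) * (c - 1) = 0 := by linear_combination h5 + (1 - c) * h2
      exact sub_eq_zero.1 (mul_self_eq_zero.1 h7)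
    rw [h6, one_smul] at hc
    exact hc.symm
  · intro x y hxy
    apply Subtype.ext
    rw [hC x, hC y, gm_inj hxy]

/-- **`Aut (PSU₃(q))`, `q` even.** -/
theorem rkAut (hF : Fintype.card F = q ^ 2) (h2 : (2 : F) = 0) {k : ℕ} (hk : 2 ≤ k) (hq : q = 2 ^ k) :
    RkAut (PSU 3 F q) (k + 1) := by
  have := finite_PSU (F := F) (q := q) (n := 3)
  have : Finite (MulAut (PSU 3 F q)) := finite_mulAut _
  have hq4 : 4 ≤ q := by
    rw [hq]
    calc 4 = 2 ^ 2 := by norm_num
      _ ≤ 2 ^ k := Nat.pow_le_pow_right two_pos hk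
  have h32 : ¬ (3 = 3 ∧ q = 2) := by omega
  intro A hA
  have hall := Cfsg.Agent.ClassicalGeometry.PSUAutMain.exists_toAut (F := F) (q := q) (n := 3) hF le_rfl h32
  have h1 : Nat.card A ≤ 2 * Nat.card (A ⊓ (f₁ : GU 3 F q →* MulAut (PSU 3 F q)).range : Subgroup _) := by
    apply card_le_two_mul
    intro x hx hxn y hy hyn
    obtain ⟨C, σ, hC⟩ := hall x
    obtain ⟨D, τ, hD⟩ := hall y
    have hsq : ∀ (C : GU 3 F q) (σ : F ≃+* F), toAut C σ * toAut C σ = 1 → σ * σ = 1 := by
      intro C σ h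
      rw [toAut_mul] at h
      have h3 : (toAut (C * mapGU σ C) (σ * σ) : MulAut (PSU 3 F q)) = toAut 1 1 := by
        rw [h, toAut_one, map_one]
      exact (eq_of_toAut_eq hF le_rfl h3).1.symm
    have hσ : σ * σ = 1 := hsq C σ (by rw [← hC]; exact hA x hx)
    have hτ : τ * τ = 1 := hsq D τ (by rw [← hD]; exact hA y hy)
    have hσ1 : σ ≠ 1 := by
      rintro rfl
      exact hxn ⟨hx, C, by rw [hC, toAut_one]⟩
    have hτ1 : τ ≠ 1 := by
      rintro rfl
      exact hyn ⟨hy, D, by rw [hD, toAut_one]⟩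
    have hστ := field_inv_unique hσ hτ hσ1 hτ1
    refine ⟨mul_mem hx hy, C * mapGU σ D, ?_⟩
    rw [hC, hD, toAut_mul, ← hστ, hσ, toAut_one]
  have h3 := card_linear hF h2 (by rw [hq]; exact dvd_pow_self 2 (by omega))
    (A ⊓ (f₁ : GU 3 F q →* MulAut (PSU 3 F q)).range)
    (fun x hx => hA x hx.1) (by
    rintro x ⟨-, C, hC⟩
    exact ⟨C, by rw [← hC, toAut_one]⟩)
  rw [pow_succ, ← hq]
  omega

end Cfsg.Agent.Omega.EH3.Rank1.UThree

end

section


/-!
# EH3: the row `PSU₃(q)`, `q ≥ 4` even (helper234)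

By numbers: modules have dimension `≥ 6 k` (`q = 2^k`, primitive prime of `2^(6k) - 1`), elementary abelian
2-subgroups of the automorphism group rank `≤ k + 1`.

* `dead` : `Dead2 (PSU 3 F q)`;
* `row` : `RowEH3 (PSU 3 F q)`;
* `row_u3` : `RowEH3 K` for `K ≃* PSU 3 F q`.
-/

set_option autoImplicit false

universe u v

namespace Cfsg.Agent.Omega.EH3.Rank1.UThree

open Cfsg Cfsg.Agent.Omega.TwoF

/-- the primitive prime -/
theorem exists_prime {q k : ℕ} (hk : 2 ≤ k) (hq : q = 2 ^ k) {F : Type*} [Field F] [Fintype F]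
    (hF : Fintype.card F = q ^ 2) :
    ∃ r, r.Prime ∧ r ≠ 2 ∧ r ∣ Nat.card (PSU 3 F q) ∧ ∀ d, 0 < d → d < 6 * k → ¬ r ∣ 2 ^ d - 1 := by
  obtain ⟨r, hr, hrn, -, hr2'⟩ := Cfsg.Agent.Lib.Zsigmondy.exists_primitive (a := 2) (n := 6 * k)
    le_rfl (by omega) (fun h => by omega) (fun h => by omega)
  have hr2 : r ≠ 2 := by
    rintro rfl
    exact hr2' dvd_rfl
  refine ⟨r, hr, hr2, ?_, ?_⟩
  · have h1 := Cfsg.Agent.S0280.result hF 3 (by norm_num)
    have h2 : r ∣ q ^ (3 * (3 - 1) / 2) * ∏ i ∈ Finset.range 3,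
        (if Even i then q ^ (i + 1) + 1 else q ^ (i + 1) - 1) := by
      apply Dvd.dvd.mul_left
      have h3 : r ∣ q ^ 6 - 1 := by
        rw [hq, ← pow_mul, mul_comm k 6]
        exact (hrn _).2 dvd_rfl
      have h4 : ¬ r ∣ q ^ 3 - 1 := by
        rw [hq, ← pow_mul, hrn]
        intro h5
        have := Nat.le_of_dvd (by omega) h5
        omega
      have h5 : q ^ 6 - 1 = (q ^ 3 - 1) * (q ^ 3 + 1) := by
        have h6 : 1 ≤ q ^ 3 := Nat.one_le_pow _ _ (by rw [hq]; positivity)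
        obtain ⟨a, ha⟩ : ∃ a, q ^ 3 = a + 1 := ⟨q ^ 3 - 1, by omega⟩
        have h7 : q ^ 6 = (q ^ 3) ^ 2 := by rw [← pow_mul]
        rw [h7, ha]
        have h8 : (a + 1) ^ 2 = a * (a + 2) + 1 := by ring
        rw [h8, Nat.add_sub_cancel, Nat.add_sub_cancel]
      rw [h5] at h3
      have h6 := (hr.dvd_mul.1 h3).resolve_left h4
      have h9 := Finset.dvd_prod_of_mem (fun i => if Even i then q ^ (i + 1) + 1 else q ^ (i + 1) - 1)
        (Finset.mem_range.2 (show 2 < 3 by norm_num))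
      simp only [show Even 2 by decide, if_true] at h9
      exact h6.trans h9
    rw [← h1] at h2
    rcases hr.dvd_mul.1 h2 with h3 | h3
    · exfalso
      have h4 : r ∣ 3 := h3.trans (Nat.gcd_dvd_left 3 (q + 1))
      have h5 : r ∣ 2 ^ 2 - 1 := h4
      rw [hrn] at h5
      have := Nat.le_of_dvd (by omega) h5
      omega
    · rcases hr.dvd_mul.1 h3 with h4 | h4
      · exfalso
        have h5 : r ∣ 2 ^ (2 * k) - 1 := by
          have h6 : 2 ^ (2 * k) - 1 = (q + 1) * (q - 1) := by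
            rw [mul_comm 2 k, pow_mul, ← hq]
            have := Nat.sq_sub_sq q 1
            rwa [one_pow] at this
          rw [h6]
          exact h4.mul_right _
        have h7 := Nat.le_of_dvd (by omega) ((hrn (2 * k)).1 h5)
        omega
      · exact h4
  · intro d h0 hd h
    have := Nat.le_of_dvd h0 ((hrn d).1 h)
    omega

variable {F : Type} [Field F] [Fintype F] {q : ℕ}

theorem simple_psu (hF : Fintype.card F = q ^ 2) (hq : q ≠ 2) :
    IsSimpleGroup (PSU 3 F q) ∧ Subgroup.center (PSU 3 F q) = ⊥ := by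
  have h32 : ¬ (3 = 3 ∧ q = 2) := fun h => hq h.2
  haveI hs := Cfsg.Agent.S0283.result hF 3 le_rfl h32
  exact ⟨hs, RowLU.center_bot_of_perf (RowLU.perf_of_surjective _
    (Cfsg.Agent.ClassicalGeometry.UnitAutBasic.pr_surjective (n := 3) (F := F) (q := q))
    (Cfsg.Agent.LieClassical.HermPerfect.commutator_SU_eq_top hF le_rfl h32))⟩

/-- **`PSU₃(q)`, `q ≥ 4` even, is dead by numbers** -/
theorem dead (hF : Fintype.card F = q ^ 2) (h2 : (2 : F) = 0) {k : ℕ} (hk : 2 ≤ k) (hq : q = 2 ^ k) :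
    Dead2.{u} (PSU 3 F q) := by
  have hq2 : q ≠ 2 := by
    intro h
    rw [hq] at h
    have : 2 ^ 2 ≤ 2 ^ k := Nat.pow_le_pow_right two_pos hk
    omega
  obtain ⟨hs, -⟩ := simple_psu hF hq2
  obtain ⟨r, hr, hr2, hrK, hprim⟩ := exists_prime hk hq hF
  haveI : Finite (PSU 3 F q) := RkPSU.finite_PSU
  exact Dead2.of_lb (lb_of_prim hr hr2 hrK hprim) (RK.of_mul_self (rkAut hF h2 hk hq)) (by omega)

/-- `q` is a power of 2 -/
theorem exists_pow (hF : Fintype.card F = q ^ 2) (h2 : (2 : F) = 0) (hq : 4 ≤ q) : ∃ k, 2 ≤ k ∧ q = 2 ^ k := by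
  have hc : CharP F 2 := CharTwo.of_one_ne_zero_of_two_eq_zero one_ne_zero h2
  obtain ⟨a, _, ha⟩ := FiniteField.card F 2
  have h6 : q ∣ 2 ^ (a : ℕ) := by
    rw [← ha, hF]
    exact dvd_pow_self q (by norm_num)
  obtain ⟨f, _, hf⟩ := (Nat.dvd_prime_pow Nat.prime_two).1 h6
  refine ⟨f, ?_, hf⟩
  by_contra hlt
  have h7 : f = 0 ∨ f = 1 := by omega
  rcases h7 with rfl | rfl <;> simp at hf <;> omega

/-- **the row `PSU₃(q)`, `q ≥ 4` even** -/
theorem row (hF : Fintype.card F = q ^ 2) (h2 : (2 : F) = 0) (hq : 4 ≤ q) : RowEH3.{u} (PSU 3 F q) := by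
  obtain ⟨k, hk, hqk⟩ := exists_pow hF h2 hq
  obtain ⟨hs, hc⟩ := simple_psu hF (show q ≠ 2 by omega)
  exact RowEH3.of_dead hc (dead hF h2 hk hqk)

/-- the row `K ≃* PSU₃(q)`, `q ≥ 4` even -/
theorem row_u3 {K : Type v} [Group K] (hF : Fintype.card F = q ^ 2) (h2 : (2 : F) = 0) (hq : 4 ≤ q)
    (e : K ≃* PSU 3 F q) : RowEH3.{u} K :=
  (row hF h2 hq).equiv e

/-- the row `K ≃* PSU₃(q)` over a field of characteristic 2, `K` not `PSU₃(2)` -/
theorem row_u3' {K : Type v} [Group K] [CharP F 2] (hF : Fintype.card F = q ^ 2) (hq : q ≠ 2)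
    (e : K ≃* PSU 3 F q) : RowEH3.{u} K := by
  have h2 : (2 : F) = 0 := by exact_mod_cast CharP.cast_eq_zero F 2
  refine row_u3 hF h2 ?_ e
  obtain ⟨a, _, ha⟩ := FiniteField.card F 2
  have h6 : q ∣ 2 ^ (a : ℕ) := by
    rw [← ha, hF]
    exact dvd_pow_self q (by norm_num)
  obtain ⟨f, _, hf⟩ := (Nat.dvd_prime_pow Nat.prime_two).1 h6
  have h7 : 2 ≤ f := by
    by_contra hlt
    have h7 : f = 0 ∨ f = 1 := by omega
    rcases h7 with rfl | rfl
    · rw [pow_zero] at hf
      subst hf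
      have := Fintype.one_lt_card (α := F)
      rw [hF] at this
      norm_num at this
    · exact hq (by rw [hf, pow_one])
  rw [hf]
  calc 4 = 2 ^ 2 := rfl
    _ ≤ 2 ^ f := Nat.pow_le_pow_right two_pos h7

end Cfsg.Agent.Omega.EH3.Rank1.UThree

end

section


/-!
# Odd covers of `SL₂(F)`, `F` of characteristic 2 (helper234)

* `isCyclic_of_pGroup` : a `p`-subgroup (`p` odd) of `SL₂(F)`, `char F = 2`, is cyclic;
* `eq_one_of_center` : central `p`-elements of a perfect group with abelian Sylow `p`-subgroups are trivial;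
* `ker_eq_bot` : an odd cover of a group `K` with cyclic Sylow `p`-subgroups for all odd `p` is an isomorphism;
* `ker_eq_bot_sl2` : an odd cover of `SL₂(F)` is an isomorphism.
-/

set_option autoImplicit false

namespace Cfsg.Agent.Omega.EH3.Rank1.OddKer

open Subgroup TwoF
open scoped Matrix MatrixGroups commutatorElement

section cyc

theorem sq_of_fix {E : Type*} [Field E] [CharP E 2] {h : Matrix (Fin 2) (Fin 2) E} (hd : h.det = 1)
    {v : Fin 2 → E} (hv : v ≠ 0) (hh : h *ᵥ v = v) : h * h = 1 := by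
  have h2 : (2 : E) = 0 := CharP.cast_eq_zero E 2
  have e0 := congrFun hh 0
  have e1 := congrFun hh 1
  simp only [Matrix.mulVec, dotProduct, Fin.sum_univ_two] at e0 e1
  rw [Matrix.det_fin_two] at hd
  have k0 : (h 0 0 + h 1 1) * v 0 = 0 := by
    linear_combination -(h 1 1 - 1) * e0 + h 0 1 * e1 + v 0 * hd + v 0 * h2
  have k1 : (h 0 0 + h 1 1) * v 1 = 0 := by
    linear_combination -(h 0 0 - 1) * e1 + h 1 0 * e0 + v 1 * hd + v 1 * h2
  have ht : h 0 0 + h 1 1 = 0 := by
    by_contra hne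
    apply hv
    ext i
    fin_cases i
    · exact (mul_eq_zero.1 k0).resolve_left hne
    · exact (mul_eq_zero.1 k1).resolve_left hne
  ext i j
  rw [Matrix.mul_apply, Fin.sum_univ_two]
  fin_cases i <;> fin_cases j
  · show h 0 0 * h 0 0 + h 0 1 * h 1 0 = (1 : Matrix (Fin 2) (Fin 2) E) 0 0
    rw [Matrix.one_apply_eq]
    linear_combination h 0 0 * ht - hd - h2
  · show h 0 0 * h 0 1 + h 0 1 * h 1 1 = (1 : Matrix (Fin 2) (Fin 2) E) 0 1
    rw [Matrix.one_apply_ne (by decide)]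
    linear_combination h 0 1 * ht
  · show h 1 0 * h 0 0 + h 1 1 * h 1 0 = (1 : Matrix (Fin 2) (Fin 2) E) 1 0
    rw [Matrix.one_apply_ne (by decide)]
    linear_combination h 1 0 * ht
  · show h 1 0 * h 0 1 + h 1 1 * h 1 1 = (1 : Matrix (Fin 2) (Fin 2) E) 1 1
    rw [Matrix.one_apply_eq]
    linear_combination h 1 1 * ht - hd - h2

/-- odd order elements of order dividing two are trivial -/
theorem eq_one_of_sq {G : Type*} [Group G] {p : ℕ} (hp : p.Prime) (hp2 : p ≠ 2) {g : G} {n : ℕ}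
    (h : g ^ p ^ n = 1) (h2 : g * g = 1) : g = 1 := by
  have hc : (p ^ n).Coprime 2 := Nat.Coprime.pow_left n ((Nat.coprime_primes hp Nat.prime_two).2 hp2)
  have h3 : g ^ Nat.gcd (p ^ n) 2 = 1 := by
    rw [← orderOf_dvd_iff_pow_eq_one]
    exact Nat.dvd_gcd (orderOf_dvd_of_pow_eq_one h) (orderOf_dvd_of_pow_eq_one (by rw [pow_two, h2]))
  rwa [hc, pow_one] at h3

variable {F : Type*} [Field F] [CharP F 2]

/-- **`p`-subgroups of `SL₂(F)`, `p` odd, `char F = 2`, are cyclic.** -/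
theorem isCyclic_of_pGroup {p : ℕ} (hp : p.Prime) (hp2 : p ≠ 2) (P : Subgroup SL(2, F)) [Finite P]
    (hP : IsPGroup p P) : IsCyclic P := by
  have hpf : Fact p.Prime := ⟨hp⟩
  by_cases hnt : Nontrivial P
  swap
  · rw [not_nontrivial_iff_subsingleton] at hnt
    exact isCyclic_of_subsingleton
  have hZ := hP.center_nontrivial
  obtain ⟨g, hg⟩ := exists_ne (1 : center P)
  have hgc : ∀ h : P, (g : P) * h = h * (g : P) := fun h => (mem_center_iff.1 g.2 h).symm
  have hg1 : ((g : P) : SL(2, F)) ≠ 1 := by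
    intro h
    apply hg
    exact Subtype.ext (Subtype.ext h)
  let E := AlgebraicClosure F
  have : CharP E 2 := charP_of_injective_algebraMap (algebraMap F E).injective 2
  let m : P → Matrix (Fin 2) (Fin 2) E := fun h => ((h : SL(2, F)) : Matrix (Fin 2) (Fin 2) F).map (algebraMap F E)
  have m_mul : ∀ h k : P, m (h * k) = m h * m k := by
    intro h k
    show (((h : SL(2, F)) * (k : SL(2, F)) : SL(2, F)) : Matrix (Fin 2) (Fin 2) F).map (algebraMap F E) = _
    rw [Matrix.SpecialLinearGroup.coe_mul, Matrix.map_mul]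
  have m_one : m 1 = 1 := by
    show (((1 : SL(2, F))) : Matrix (Fin 2) (Fin 2) F).map (algebraMap F E) = _
    rw [Matrix.SpecialLinearGroup.coe_one, Matrix.map_one _ (map_zero _) (map_one _)]
  have m_det : ∀ h : P, (m h).det = 1 := by
    intro h
    show (((h : SL(2, F)) : Matrix (Fin 2) (Fin 2) F).map (algebraMap F E)).det = 1
    have h1 := (algebraMap F E).map_det ((h : SL(2, F)) : Matrix (Fin 2) (Fin 2) F)
    rw [Matrix.SpecialLinearGroup.det_coe, map_one] at h1
    exact h1.symm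
  have m_inj : ∀ h k : P, m h = m k → h = k := by
    intro h k hk
    apply Subtype.ext
    apply Matrix.SpecialLinearGroup.ext
    intro i j
    have := congrFun (congrFun hk i) j
    exact (algebraMap F E).injective this
  -- an eigenvector of `g`
  obtain ⟨c, hc⟩ : ∃ c : E, (m g - Matrix.scalar (Fin 2) c).det = 0 := by
    have hdeg : (m g).charpoly.degree ≠ 0 := by
      rw [Matrix.charpoly_degree_eq_dim, Fintype.card_fin]
      norm_num
    obtain ⟨c, hc⟩ := IsAlgClosed.exists_root _ hdeg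
    refine ⟨c, ?_⟩
    have h1 : (Matrix.scalar (Fin 2) c - m g).det = 0 := by
      rw [← Matrix.eval_charpoly]
      exact hc
    rw [← neg_sub, Matrix.det_neg, h1, mul_zero]
  obtain ⟨v, hv, hgv⟩ := Matrix.exists_mulVec_eq_zero_iff.2 hc
  have hN : m g - Matrix.scalar (Fin 2) c ≠ 0 := by
    intro h0
    have h1 : m g = Matrix.scalar (Fin 2) c := sub_eq_zero.1 h0
    have h2 := m_det g
    rw [h1, Matrix.scalar_apply, Matrix.det_diagonal, Fin.prod_univ_two] at h2
    have h3 : c = 1 := by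
      have h4 : (c - 1) * (c - 1) = 0 := by
        have h5 : (2 : E) = 0 := CharP.cast_eq_zero E 2
        linear_combination h2 + (1 - c) * h5
      have h5 := mul_self_eq_zero.1 h4
      exact sub_eq_zero.1 h5
    apply hg1
    have h4 : (g : P) = 1 := m_inj _ _ (by rw [h1, h3, m_one, map_one])
    rw [h4]
    rfl
  -- parallel vectors
  have hpar : ∀ u : Fin 2 → E, (m g - Matrix.scalar (Fin 2) c) *ᵥ u = 0 → ∃ k : E, u = k • v := by
    intro u hu
    have hdet : u 0 * v 1 = u 1 * v 0 := by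
      obtain ⟨i, j, hij⟩ : ∃ i j, (m g - Matrix.scalar (Fin 2) c) i j ≠ 0 := by
        by_contra hcon
        push Not at hcon
        exact hN (Matrix.ext hcon)
      have a1 := congrFun hu i
      have a2 := congrFun hgv i
      simp only [Matrix.mulVec, dotProduct, Fin.sum_univ_two, Pi.zero_apply] at a1 a2
      have hA : (m g - Matrix.scalar (Fin 2) c) i 0 * (u 0 * v 1 - u 1 * v 0) = 0 := by
        linear_combination v 1 * a1 - u 1 * a2
      have hB : (m g - Matrix.scalar (Fin 2) c) i 1 * (u 0 * v 1 - u 1 * v 0) = 0 := by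
        linear_combination u 0 * a2 - v 0 * a1
      have hj : (m g - Matrix.scalar (Fin 2) c) i j * (u 0 * v 1 - u 1 * v 0) = 0 := by
        fin_cases j
        · exact hA
        · exact hB
      exact sub_eq_zero.1 ((mul_eq_zero.1 hj).resolve_left hij)
    by_cases hv0 : v 0 = 0
    · have hv1 : v 1 ≠ 0 := by
        intro h1
        apply hv
        ext i
        fin_cases i
        · exact hv0
        · exact h1
      refine ⟨u 1 / v 1, ?_⟩
      ext i
      fin_cases i
      · show u 0 = u 1 / v 1 * v 0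
        rw [hv0, mul_zero] at hdet ⊢
        exact (mul_eq_zero.1 hdet).resolve_right hv1
      · show u 1 = u 1 / v 1 * v 1
        rw [div_mul_cancel₀ _ hv1]
    · refine ⟨u 0 / v 0, ?_⟩
      ext i
      fin_cases i
      · show u 0 = u 0 / v 0 * v 0
        rw [div_mul_cancel₀ _ hv0]
      · show u 1 = u 0 / v 0 * v 1
        rw [div_mul_eq_mul_div, hdet, mul_div_cancel_right₀ _ hv0]
  have hcm : ∀ h : P, m g * m h = m h * m g := fun h => by rw [← m_mul, ← m_mul, hgc]
  have hsc : ∀ u : Fin 2 → E, Matrix.scalar (Fin 2) c *ᵥ u = c • u := by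
    intro u
    ext i
    rw [Matrix.scalar_apply, Matrix.mulVec_diagonal]
    rfl
  have key : ∀ h : P, ∃ k : E, m h *ᵥ v = k • v := by
    intro h
    apply hpar
    rw [Matrix.sub_mulVec, hsc] at hgv ⊢
    have h1 : m g *ᵥ v = c • v := sub_eq_zero.1 hgv
    rw [Matrix.mulVec_mulVec, hcm, ← Matrix.mulVec_mulVec, h1, Matrix.mulVec_smul, sub_self]
  choose f hf using key
  have hcan : ∀ k l : E, k • v = l • v → k = l := by
    intro k l hkl
    have h1 : (k - l) • v = 0 := by rw [sub_smul, hkl, sub_self]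
    exact sub_eq_zero.1 ((smul_eq_zero.1 h1).resolve_right hv)
  let f' : P →* E :=
    { toFun := f
      map_one' := by
        apply hcan
        rw [← hf, m_one, Matrix.one_mulVec, one_smul]
      map_mul' := by
        intro h k
        apply hcan
        rw [← hf, m_mul, ← Matrix.mulVec_mulVec, hf k, Matrix.mulVec_smul, hf h, smul_smul, mul_comm] }
  refine isCyclic_of_injective_ringHom f' ?_
  rw [injective_iff_map_eq_one]
  intro h hh
  have h1 : m h *ᵥ v = v := by
    rw [hf h]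
    have : f h = 1 := hh
    rw [this, one_smul]
  have h2 := sq_of_fix (m_det h) hv h1
  rw [← m_mul, ← m_one] at h2
  have h3 := m_inj _ _ h2
  obtain ⟨n, hn⟩ := hP h
  exact eq_one_of_sq hp hp2 hn h3

end cyc

section transfer

/-- central `p`-elements of a perfect group with abelian Sylow `p`-subgroups are trivial -/
theorem eq_one_of_center {K : Type*} [Group K] [Finite K] (hK : commutator K = ⊤) {p : ℕ} [Fact p.Prime]
    (P : Sylow p K) (hP : ∀ x ∈ P, ∀ y ∈ P, x * y = y * x) {z : K} (hz : z ∈ center K) {n : ℕ}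
    (hn : z ^ p ^ n = 1) : z = 1 := by
  let _ : CommGroup (P : Subgroup K) :=
    { (inferInstance : Group (P : Subgroup K)) with
      mul_comm := fun x y => Subtype.ext (hP x x.2 y y.2) }
  have h1 : (MonoidHom.transfer (MonoidHom.id (P : Subgroup K))) z = 1 := by
    have h2 : commutator K ≤ (MonoidHom.transfer (MonoidHom.id (P : Subgroup K))).ker :=
      Abelianization.commutator_subset_ker _
    rw [hK] at h2
    exact h2 (mem_top z)
  have key : ∀ (k : ℕ) (g₀ : K), g₀⁻¹ * z ^ k * g₀ ∈ (P : Subgroup K) → g₀⁻¹ * z ^ k * g₀ = z ^ k := by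
    intro k g _
    have h2 : z ^ k ∈ center K := pow_mem hz k
    rw [mul_assoc, ← mem_center_iff.1 h2 g, ← mul_assoc, inv_mul_cancel, one_mul]
  rw [MonoidHom.transfer_eq_pow _ _ key] at h1
  have h3 : z ^ (P : Subgroup K).index = 1 := congrArg Subtype.val h1
  have hidx : ¬ p ∣ (P : Subgroup K).index := P.not_dvd_index
  have hcop : (p ^ n).Coprime (P : Subgroup K).index :=
    Nat.Coprime.pow_left n (((Fact.out : p.Prime).coprime_iff_not_dvd).2 hidx)
  have h4 : z ^ Nat.gcd (p ^ n) (P : Subgroup K).index = 1 := by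
    rw [← orderOf_dvd_iff_pow_eq_one]
    exact Nat.dvd_gcd (orderOf_dvd_of_pow_eq_one hn) (orderOf_dvd_of_pow_eq_one h3)
  rwa [hcop, pow_one] at h4

/-- the `p`-part of the kernel of a perfect central extension is trivial if the Sylow `p`-subgroups of the image are
cyclic -/
theorem eq_one_of_cyclic {L : Type*} {K : Type*} [Group L] [Group K] [Finite L] {π : L →* K}
    (hL : commutator L = ⊤) (hc : π.ker ≤ center L) {p : ℕ} (hp : p.Prime)
    (hcyc : ∀ P : Subgroup K, IsPGroup p P → IsCyclic P) {z : L} (hz : z ∈ center L) {n : ℕ}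
    (hn : z ^ p ^ n = 1) : z = 1 := by
  have : Fact p.Prime := ⟨hp⟩
  obtain ⟨P⟩ : Nonempty (Sylow p L) := inferInstance
  refine eq_one_of_center hL P ?_ hz hn
  have hPm : IsPGroup p ((P : Subgroup L).map π) := P.2.map π
  have := hcyc _ hPm
  intro x hx y hy
  let f : (P : Subgroup L) →* ((P : Subgroup L).map π) := π.subgroupMap P
  have hf : f.ker ≤ center (P : Subgroup L) := by
    intro u hu
    rw [MonoidHom.mem_ker] at hu
    have h1 : (u : L) ∈ π.ker := congrArg Subtype.val hu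
    rw [mem_center_iff]
    intro v
    exact Subtype.ext (mem_center_iff.1 (hc h1) v)
  have h0 := MonoidHom.isMulCommutative_of_isCyclic_of_ker_le_center f hf
  exact congrArg Subtype.val (h0.is_comm.comm (⟨x, hx⟩ : (P : Subgroup L)) ⟨y, hy⟩)

/-- an element of a finite group of odd order is trivial if its Sylow parts are -/
theorem eq_one_of_parts {Z : Type*} [Group Z] [Finite Z] (hodd : Odd (Nat.card Z))
    (h : ∀ p : ℕ, p.Prime → p ≠ 2 → ∀ (z : Z) (n : ℕ), z ^ p ^ n = 1 → z = 1) (z : Z) : z = 1 := by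
  by_contra hz
  have h1 : orderOf z ≠ 1 := fun h1 => hz (orderOf_eq_one_iff.1 h1)
  obtain ⟨p, hp, hpd⟩ := Nat.exists_prime_and_dvd h1
  have hp2 : p ≠ 2 := by
    rintro rfl
    have h2 : 2 ∣ Nat.card Z := hpd.trans (orderOf_dvd_natCard z)
    exact (Nat.not_even_iff_odd.2 hodd) (even_iff_two_dvd.2 h2)
  obtain ⟨k, hk⟩ := hpd
  have h3 := h p hp hp2 (z ^ k) 1 (by rw [pow_one, ← pow_mul, mul_comm, ← hk, pow_orderOf_eq_one])
  have h4 : orderOf z ∣ k := orderOf_dvd_of_pow_eq_one h3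
  have hk0 : 0 < k := by
    rcases Nat.eq_zero_or_pos k with h0 | h0
    · rw [h0, mul_zero] at hk
      exact absurd hk (orderOf_pos z).ne'
    · exact h0
  have h5 := Nat.le_of_dvd hk0 h4
  rw [hk] at h5
  have h6 := hp.two_le
  nlinarith

/-- **an odd cover of a group with cyclic Sylow `p`-subgroups for odd `p` is an isomorphism** -/
theorem ker_eq_bot {L : Type*} {K : Type*} [Group L] [Group K] [Finite L] {π : L →* K} (hπ : OddCover π)
    (hcyc : ∀ p : ℕ, p.Prime → p ≠ 2 → ∀ P : Subgroup K, IsPGroup p P → IsCyclic P) : π.ker = ⊥ := by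
  rw [eq_bot_iff]
  intro z hz
  have h1 := eq_one_of_parts hπ.odd (fun p hp hp2 y n hn => by
    apply Subtype.ext
    refine eq_one_of_cyclic hπ.perf hπ.cent hp (hcyc p hp hp2) (hπ.cent y.2) (n := n) ?_
    have := congrArg Subtype.val hn
    simpa using this) ⟨z, hz⟩
  exact mem_bot.2 (congrArg Subtype.val h1)

/-- **an odd cover of `SL₂(F)`, `char F = 2`, is an isomorphism** -/
theorem ker_eq_bot_sl2 {F : Type*} [Field F] [Finite F] [CharP F 2] {L : Type*} [Group L] [Finite L]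
    {π : L →* SL(2, F)} (hπ : OddCover π) : π.ker = ⊥ :=
  ker_eq_bot hπ fun _ hp hp2 P hP => isCyclic_of_pGroup hp hp2 P hP

/-! ### Subgroups of odd covers -/

section lift

variable {L : Type*} {K : Type*} [Group L] [Group K] {π : L →* K}

/-- the perfect lift of a subgroup of `K` -/
def lft (π : L →* K) (E : Subgroup K) : Subgroup L := ⁅E.comap π, E.comap π⁆

theorem lft_le (π : L →* K) (E : Subgroup K) : lft π E ≤ E.comap π := Subgroup.commutator_le_self _

theorem map_lft (hs : Function.Surjective π) {E : Subgroup K} (hE : ⁅E, E⁆ = E) : (lft π E).map π = E := by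
  unfold lft
  rw [Subgroup.map_commutator, Subgroup.map_comap_eq_self_of_surjective hs, hE]

/-- everything normalising the preimage normalises the lift -/
theorem conj_lft (π : L →* K) (E : Subgroup K) (φ : MulAut L) (h : ∀ x, π x ∈ E → π (φ x) ∈ E) {x : L}
    (hx : x ∈ lft π E) : φ x ∈ lft π E := by
  have h1 : (E.comap π).map φ.toMonoidHom ≤ E.comap π := by
    rintro _ ⟨y, hy, rfl⟩
    exact h y hy
  have h2 : (lft π E).map φ.toMonoidHom ≤ lft π E := by
    unfold lft
    rw [Subgroup.map_commutator]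
    exact Subgroup.commutator_mono h1 h1
  exact h2 ⟨x, hx, rfl⟩

/-- `x ∈ π⁻¹(E)` is a product of an element of the lift and a central element of `ker π` -/
theorem exists_lft (hs : Function.Surjective π) {E : Subgroup K} (hE : ⁅E, E⁆ = E) {x : L} (hx : π x ∈ E) :
    ∃ e ∈ lft π E, ∃ z ∈ π.ker, x = e * z := by
  rw [← map_lft hs hE] at hx
  obtain ⟨e, he, hex⟩ := hx
  refine ⟨e, he, e⁻¹ * x, ?_, by group⟩
  rw [MonoidHom.mem_ker, map_mul, map_inv, hex, inv_mul_cancel]

theorem perfect_lft (hs : Function.Surjective π) (hc : π.ker ≤ center L) {E : Subgroup K} (hE : ⁅E, E⁆ = E) :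
    ⁅lft π E, lft π E⁆ = lft π E := by
  refine le_antisymm (Subgroup.commutator_le_self _) ?_
  conv_lhs => unfold lft
  rw [Subgroup.commutator_le]
  intro x hx y hy
  obtain ⟨e, he, z, hz, rfl⟩ := exists_lft hs hE hx
  obtain ⟨f, hf, w, hw, rfl⟩ := exists_lft hs hE hy
  have hz' := mem_center_iff.1 (hc hz)
  have hw' := mem_center_iff.1 (hc hw)
  have h1 : ⁅e * z, f * w⁆ = ⁅e, f⁆ := by
    rw [commutatorElement_def, commutatorElement_def]
    calc e * z * (f * w) * (e * z)⁻¹ * (f * w)⁻¹ = e * (z * (f * w)) * (e * z)⁻¹ * (f * w)⁻¹ := by group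
      _ = e * ((f * w) * z) * (e * z)⁻¹ * (f * w)⁻¹ := by rw [← hz' (f * w)]
      _ = e * (f * w) * e⁻¹ * (f * w)⁻¹ := by group
      _ = e * f * (w * e⁻¹) * (f * w)⁻¹ := by group
      _ = e * f * (e⁻¹ * w) * (f * w)⁻¹ := by rw [← hw' e⁻¹]
      _ = _ := by group
  rw [h1]
  exact Subgroup.commutator_mem_commutator he hf

/-- **(r1)** `π` is injective on the lift of a perfect subgroup with cyclic `p`-subgroups, `p ∣ |ker π|` -/
theorem inf_ker_eq_bot [Finite L] (hπ : OddCover π) {E : Subgroup K} (hE : ⁅E, E⁆ = E)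
    (hcyc : ∀ p : ℕ, p.Prime → p ∣ Nat.card π.ker → ∀ P : Subgroup E, IsPGroup p P → IsCyclic P) :
    lft π E ⊓ π.ker = ⊥ := by
  let f : lft π E →* E := (π.comp (lft π E).subtype).codRestrict E (fun x => lft_le π E x.2)
  have hfv : ∀ x, ((f x : E) : K) = π x := fun _ => rfl
  have hperf : commutator (lft π E) = ⊤ := by
    have h1 := perfect_lft hπ.surj hπ.cent hE
    have h2 : (commutator (lft π E)).map (lft π E).subtype = lft π E := by
      rw [commutator_def, Subgroup.map_commutator, ← MonoidHom.range_eq_map, Subgroup.range_subtype, h1]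
    rw [eq_top_iff]
    intro x _
    have h3 : (x : L) ∈ (commutator (lft π E)).map (lft π E).subtype := by rw [h2]; exact x.2
    obtain ⟨y, hy, hyx⟩ := h3
    rwa [← Subtype.ext hyx]
  have hker : ∀ x : lft π E, x ∈ f.ker ↔ (x : L) ∈ π.ker := by
    intro x
    rw [MonoidHom.mem_ker, MonoidHom.mem_ker]
    exact ⟨fun h => congrArg Subtype.val h, fun h => Subtype.ext h⟩
  have hcent : f.ker ≤ center (lft π E) := by
    intro x hx
    rw [mem_center_iff]
    intro y
    exact Subtype.ext (mem_center_iff.1 (hπ.cent ((hker x).1 hx)) y)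
  have hdvd : Nat.card f.ker ∣ Nat.card π.ker := by
    have h1 : f.ker.map (lft π E).subtype ≤ π.ker := by
      rintro _ ⟨x, hx, rfl⟩
      exact (hker x).1 hx
    rw [Nat.card_congr (f.ker.equivMapOfInjective _ (lft π E).subtype_injective).toEquiv]
    exact Subgroup.card_dvd_of_le h1
  have hodd : Odd (Nat.card f.ker) := hπ.odd.of_dvd_nat hdvd
  rw [eq_bot_iff]
  rintro z ⟨hz, hzk⟩
  have hz' : (⟨z, hz⟩ : lft π E) ∈ f.ker := (hker _).2 hzk
  have h1 := eq_one_of_parts hodd (fun p hp hp2 y n hn => by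
    by_cases hpd : p ∣ Nat.card π.ker
    · apply Subtype.ext
      refine eq_one_of_cyclic hperf hcent hp (hcyc p hp hpd) (hcent y.2) (n := n) ?_
      have := congrArg Subtype.val hn
      simpa using this
    · -- `p` does not divide the order of the kernel
      have h2 : orderOf y ∣ p ^ n := orderOf_dvd_of_pow_eq_one hn
      have h3 : orderOf y ∣ Nat.card π.ker := (orderOf_dvd_natCard y).trans hdvd
      have hcop : (p ^ n).Coprime (Nat.card π.ker) :=
        Nat.Coprime.pow_left n ((hp.coprime_iff_not_dvd).2 hpd)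
      exact orderOf_eq_one_iff.1 (Nat.eq_one_of_dvd_coprimes hcop h2 h3)) ⟨⟨z, hz⟩, hz'⟩
  have h2 := congrArg (fun y : f.ker => ((y : lft π E) : L)) h1
  exact mem_bot.2 h2

/-- 2-elements of the preimage lie in the lift -/
theorem mem_lft_of_two [Finite L] (hπ : OddCover π) {E : Subgroup K} (hE : ⁅E, E⁆ = E)
    (hk : lft π E ⊓ π.ker = ⊥) {x : L} (hx : π x ∈ E) {n : ℕ} (hn : x ^ 2 ^ n = 1) : x ∈ lft π E := by
  obtain ⟨e, he, z, hz, rfl⟩ := exists_lft hπ.surj hE hx
  have hc : Commute e z := mem_center_iff.1 (hπ.cent hz) e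
  rw [hc.mul_pow] at hn
  have h1 : z ^ 2 ^ n ∈ lft π E ⊓ π.ker := by
    refine ⟨?_, pow_mem hz _⟩
    show z ^ 2 ^ n ∈ lft π E
    rw [eq_inv_of_mul_eq_one_right hn]
    exact inv_mem (pow_mem he _)
  rw [hk, mem_bot] at h1
  have h2 : orderOf z ∣ 2 ^ n := orderOf_dvd_of_pow_eq_one h1
  have h3 : orderOf z ∣ Nat.card π.ker := by
    have := orderOf_dvd_natCard (⟨z, hz⟩ : π.ker)
    rwa [Subgroup.orderOf_mk] at this
  have hcop : (2 ^ n).Coprime (Nat.card π.ker) :=
    Nat.Coprime.pow_left n (Nat.coprime_two_left.2 hπ.odd)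
  have h4 : z = 1 := orderOf_eq_one_iff.1 (Nat.eq_one_of_dvd_coprimes hcop h2 h3)
  rw [h4, mul_one]
  exact he

/-- **the isomorphism of the lift with `E`** -/
theorem exists_equiv (hπ : OddCover π) {E : Subgroup K} (hE : ⁅E, E⁆ = E)
    (hk : lft π E ⊓ π.ker = ⊥) : ∃ f : lft π E ≃* E, ∀ x, ((f x : E) : K) = π x := by
  let f : lft π E →* E := (π.comp (lft π E).subtype).codRestrict E (fun x => lft_le π E x.2)
  refine ⟨MulEquiv.ofBijective f ⟨?_, ?_⟩, fun _ => rfl⟩
  · rw [injective_iff_map_eq_one]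
    intro x hx
    have h1 : (x : L) ∈ lft π E ⊓ π.ker := ⟨x.2, congrArg Subtype.val hx⟩
    rw [hk] at h1
    exact Subtype.ext (mem_bot.1 h1)
  · intro y
    have h1 : (y : K) ∈ (lft π E).map π := by rw [map_lft hπ.surj hE]; exact y.2
    obtain ⟨x, hx, hxy⟩ := h1
    exact ⟨⟨x, hx⟩, Subtype.ext hxy⟩

end lift

end transfer

end Cfsg.Agent.Omega.EH3.Rank1.OddKer

end

end

-- merged: Cfsg.Agent.Mrg.Omega.EH3.Rank1.Base
section

/-!
# EH3, rows of rank one: the general part (helper234)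

* `Cfg.eq_bot_of_normal_fix` : a normal subgroup fixing `a` is trivial;
* `Cfg.center_cube` : `Z(L)` of odd order has exponent 3 for `L` normal in `H` (LEMMA CUBE);
* `Cfg.oddKer_eq_bot` : a normal odd cover `L` of `K` is `K` if the 3-subgroups of `K` are cyclic;
* `Cfg.exists_T_sub` : `T = S ∩ L`, `S` a Sylow 2-subgroup of `H` with `X ≤ S ≤ H_a`;
* `Pre.mapInj`, `NodeL.mapInj` : transport of nodes along an injective homomorphism.
-/

set_option autoImplicit false

namespace Cfsg.Agent.Omega.EH3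

open Subgroup TwoF
open scoped Pointwise

universe u v

namespace Cfg

variable {H V : Type*} [Group H] [AddCommGroup V] [Module (ZMod 2) V]
  {ρ : H →* (V ≃ₗ[ZMod 2] V)} {b : LinearMap.BilinForm (ZMod 2) V} {q : V → ZMod 2}
  {a : V} {D : Submodule (ZMod 2) V} {X : Subgroup H} {w : ℕ}

/-- a normal subgroup fixing `a` is trivial -/
theorem eq_bot_of_normal_fix (C : Cfg ρ b q a D X w) {N : Subgroup H} (hN : N.Normal) (h : ∀ n ∈ N, ρ n a = a) :
    N = ⊥ := by
  have hinv : ∀ g, ∀ u ∈ C.fixV N, ρ g u ∈ C.fixV N := by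
    intro g u hu n hn
    have h1 := hu _ (hN.conj_mem n hn g⁻¹)
    have h2 : ρ (g * (g⁻¹ * n * g⁻¹⁻¹)) u = ρ (n * g) u := by congr 2; group
    rw [← C.ρ_mul, ← h2, C.ρ_mul, h1]
  rcases C.irr _ hinv with h1 | h1
  · exfalso
    apply C.a_ne
    have : a ∈ C.fixV N := h
    rw [h1] at this
    exact this
  · rw [eq_bot_iff]
    intro n hn
    rw [Subgroup.mem_bot]
    apply C.ext
    intro u
    have : u ∈ C.fixV N := by rw [h1]; trivial
    rw [this n hn, C.ρ_one]

/-- an abelian normal subgroup of odd order has exponent 3 -/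
theorem cube_of_normal (C : Cfg ρ b q a D X w) {N : Subgroup H} (hN : N.Normal)
    (hc : ∀ x ∈ N, ∀ y ∈ N, x * y = y * x) (ho : Odd (Nat.card N)) : ∀ z ∈ N, z ^ 3 = 1 := by
  have := C.finite_H
  have h1 : ∀ z ∈ N, ρ (z ^ 3) a = a := by
    refine C.cube (fun x _ g hg => hN.conj_mem g hg x) ?_ ?_
    · intro g hg h hh
      rw [hc g hg h hh, mul_inv_cancel_right, mul_inv_cancel, C.ρ_one]
    · intro g hg
      refine ⟨_, ho, ?_⟩
      have h2 : (⟨g, hg⟩ : N) ^ Nat.card N = 1 := pow_card_eq_one'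
      have h3 : g ^ Nat.card N = 1 := by
        have h4 := congrArg Subtype.val h2
        rwa [SubmonoidClass.coe_pow] at h4
      rw [h3, C.ρ_one]
  let M : Subgroup H :=
    { carrier := {y | ∃ z ∈ N, z ^ 3 = y}
      one_mem' := ⟨1, N.one_mem, one_pow 3⟩
      mul_mem' := by
        rintro _ _ ⟨x, hx, rfl⟩ ⟨y, hy, rfl⟩
        exact ⟨x * y, N.mul_mem hx hy, (show Commute x y from hc x hx y hy).mul_pow 3⟩
      inv_mem' := by
        rintro _ ⟨x, hx, rfl⟩
        exact ⟨x⁻¹, N.inv_mem hx, inv_pow x 3⟩ }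
  have hM : M.Normal := ⟨by
    rintro _ ⟨x, hx, rfl⟩ g
    exact ⟨g * x * g⁻¹, hN.conj_mem x hx g, conj_pow⟩⟩
  have hM1 : M = ⊥ := C.eq_bot_of_normal_fix hM (by
    rintro _ ⟨x, hx, rfl⟩
    exact h1 x hx)
  intro z hz
  have : z ^ 3 ∈ M := ⟨z, hz, rfl⟩
  rw [hM1] at this
  exact mem_bot.1 this

/-- `Z(L)` of odd order has exponent 3 -/
theorem center_cube (C : Cfg ρ b q a D X w) {L : Subgroup H} (hL : L.Normal) (ho : Odd (Nat.card (center L))) :
    ∀ z ∈ center L, z ^ 3 = 1 := by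
  have hN : ((center L).map L.subtype).Normal := inferInstance
  have h1 := C.cube_of_normal hN (by
    rintro _ ⟨x, hx, rfl⟩ _ ⟨y, hy, rfl⟩
    rw [← map_mul, ← map_mul, mem_center_iff.1 hy x]) (by
    rwa [Nat.card_congr ((center L).equivMapOfInjective _ L.subtype_injective).symm.toEquiv])
  intro z hz
  have h2 := h1 z ⟨z, hz, rfl⟩
  exact Subtype.ext (by simpa using h2)

/-- **a normal odd cover of a centreless group with cyclic 3-subgroups is an isomorphism** -/
theorem oddKer_eq_bot (C : Cfg ρ b q a D X w) {L : Subgroup H} (hL : L.Normal) {K : Type*} [Group K] {π : L →* K}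
    (hπ : OddCover π) (hK : center K = ⊥) (h3 : ∀ P : Subgroup K, IsPGroup 3 P → IsCyclic P) : π.ker = ⊥ := by
  have := C.finite_H
  have hk := hπ.ker_eq hK
  have ho : Odd (Nat.card (center L)) := hk ▸ hπ.odd
  rw [eq_bot_iff]
  intro z hz
  have hz' : z ∈ center L := hk ▸ hz
  exact mem_bot.2 (Rank1.OddKer.eq_one_of_cyclic hπ.perf hπ.cent Nat.prime_three h3 hz' (n := 1)
    (by rw [pow_one]; exact C.center_cube hL ho z hz'))

/-- **`T = S ∩ L`** is a Sylow 2-subgroup of the normal subgroup `L`, fixes `a` and is normalised by `X`. -/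
theorem exists_T_sub (C : Cfg ρ b q a D X w) {L : Subgroup H} (hL : L.Normal) :
    ∃ T : Sylow 2 L, XCond ρ a X L ((T : Subgroup L).map L.subtype) ∧
      ∃ S : Sylow 2 H, X ≤ (S : Subgroup H) ∧ (∀ s ∈ S, ρ s a = a) ∧
        (T : Subgroup L).map L.subtype = (S : Subgroup H) ⊓ L := by
  have := C.finite_H
  have h2 : Fact (Nat.Prime 2) := ⟨Nat.prime_two⟩
  obtain ⟨S, hXS, hS⟩ := C.exists_sylow
  have hp : IsPGroup 2 ((S : Subgroup H).subgroupOf L) := S.2.comap_of_injective _ L.subtype_injective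
  obtain ⟨T, hT⟩ := hp.exists_le_sylow
  obtain ⟨Q, hQ⟩ := Sylow.exists_comap_subtype_eq T
  obtain ⟨g, hg⟩ := MulAction.exists_smul_eq H S Q
  have hcard : Nat.card T ≤ Nat.card ((S : Subgroup H).subgroupOf L) := by
    refine Nat.card_le_card_of_injective
      (fun t : T => (⟨⟨g⁻¹ * (t : L) * g, ?_⟩, ?_⟩ : (S : Subgroup H).subgroupOf L)) ?_
    · have := hL.conj_mem ((t : L) : H) (t : L).2 g⁻¹
      rwa [inv_inv] at this
    · rw [Subgroup.mem_subgroupOf]
      have h1 : ((t : L) : H) ∈ (Q : Subgroup H) := by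
        have : (t : L) ∈ (T : Subgroup L) := t.2
        rw [← hQ] at this
        exact this
      rw [← hg, Sylow.coe_subgroup_smul, Subgroup.mem_pointwise_smul_iff_inv_smul_mem] at h1
      simpa [MulAut.smul_def] using h1
    · intro t s hts
      have h1 : g⁻¹ * ((t : L) : H) * g = g⁻¹ * ((s : L) : H) * g :=
        congrArg (fun x : (S : Subgroup H).subgroupOf L => ((x : L) : H)) hts
      exact Subtype.ext (Subtype.ext (mul_left_cancel (mul_right_cancel h1)))
  have hTS : (S : Subgroup H).subgroupOf L = T := eq_of_le_of_card_ge hT hcard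
  have hmap : (T : Subgroup L).map L.subtype = (S : Subgroup H) ⊓ L := by
    rw [← hTS, Subgroup.subgroupOf_map_subtype]
  refine ⟨T, ⟨fun x _ e he => hL.conj_mem e he x, ?_, ?_⟩, S, hXS, hS, hmap⟩
  · intro x hx t ht
    rw [hmap] at ht ⊢
    exact ⟨(S : Subgroup H).mul_mem ((S : Subgroup H).mul_mem (hXS hx) ht.1) ((S : Subgroup H).inv_mem (hXS hx)),
      hL.conj_mem t ht.2 x⟩
  · intro t ht
    rw [hmap] at ht
    exact hS t ht.1

end Cfg

/-! ### transport along injective homomorphisms -/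

section map

variable {K : Type*} {H : Type*} [Group K] [Group H]

theorem Rank1.mem_normalizer_map {f : K →* H} (hf : Function.Injective f) {T : Subgroup K} {k : K} :
    f k ∈ normalizer ((T.map f : Subgroup H) : Set H) ↔ k ∈ normalizer (T : Set K) := by
  rw [mem_normalizer_iff, mem_normalizer_iff]
  constructor
  · intro h t
    have h1 := h (f t)
    have h2 : f k * f t * (f k)⁻¹ = f (k * t * k⁻¹) := by simp
    rw [h2] at h1
    rwa [mem_map_iff_mem hf, mem_map_iff_mem hf] at h1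
  · intro h x
    constructor
    · rintro ⟨t, ht, rfl⟩
      exact ⟨k * t * k⁻¹, (h t).1 ht, by simp⟩
    · rintro ⟨t, ht, hte⟩
      refine ⟨k⁻¹ * t * k, ?_, ?_⟩
      · have := (h (k⁻¹ * t * k)).2 (by
          have h1 : k * (k⁻¹ * t * k) * k⁻¹ = t := by group
          rw [h1]; exact ht)
        exact this
      · rw [map_mul, map_mul, hte, map_inv]
        group

theorem Pre.mapInj {E T O : Subgroup K} (h : Pre E T O) {f : K →* H} (hf : Function.Injective f) :
    Pre (E.map f) (T.map f) (O.map f) where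
  T_le := Subgroup.map_mono h.T_le
  O_le := Subgroup.map_mono h.O_le
  two := h.two.map f
  norm := by
    rintro _ ⟨g, hg, rfl⟩ _ ⟨o, ho, rfl⟩
    exact ⟨g * o * g⁻¹, h.norm g hg o ho, by simp⟩
  trans := by
    rintro _ ⟨g, hg, rfl⟩ hgN _ ⟨k, hk, rfl⟩ hkN
    rw [Rank1.mem_normalizer_map hf] at hgN hkN
    obtain ⟨t, ht, h1⟩ := h.trans g hg hgN k hk hkN
    refine ⟨f t, ⟨t, ht, rfl⟩, ?_⟩
    have h2 : (f t * f g)⁻¹ * f k = f ((t * g)⁻¹ * k) := by simp
    rw [h2, Rank1.mem_normalizer_map hf]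
    exact h1
  core := by
    rintro _ ⟨g, hg, rfl⟩ h1
    refine ⟨g, h.core g hg fun k hk => ?_, rfl⟩
    have h2 := h1 (f k) ⟨k, hk, rfl⟩
    have h3 : (f k)⁻¹ * f g * f k = f (k⁻¹ * g * k) := by simp
    rwa [h3, Rank1.mem_normalizer_map hf] at h2

theorem NodeL.mapInj {F : Type*} [Field F] {E T O : Subgroup K} {φ : K → F} {c : K} {lam : F}
    (h : NodeL E T O φ c lam) {f : K →* H} (hf : Function.Injective f) :
    ∃ φ' : H → F, (∀ k, φ' (f k) = φ k) ∧ NodeL (E.map f) (T.map f) (O.map f) φ' (f c) lam := by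
  classical
  refine ⟨fun x => φ (Function.invFun f x), ?_, ?_⟩
  · intro k
    show φ (Function.invFun f (f k)) = φ k
    rw [Function.leftInverse_invFun hf]
  have hφ : ∀ k, φ (Function.invFun f (f k)) = φ k := fun k => by rw [Function.leftInverse_invFun hf]
  refine { h.toPre.mapInj hf with
    map_mul := ?_
    ker := ?_
    surj := ?_
    c_mem := ⟨c, h.c_mem, rfl⟩
    c_norm := (Rank1.mem_normalizer_map hf).2 h.c_norm
    gen := ?_
    act := ?_
    ne := h.ne
    ord := h.ord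
    tor := ⟨_, h.tor, by simp⟩ }
  · rintro _ ⟨s, hs, rfl⟩ _ ⟨t, ht, rfl⟩
    rw [← _root_.map_mul, hφ, hφ, hφ]
    exact h.map_mul s hs t ht
  · rintro _ ⟨s, hs, rfl⟩
    rw [hφ, h.ker s hs, mem_map_iff_mem hf]
  · intro x
    obtain ⟨t, ht, hx⟩ := h.surj x
    exact ⟨f t, ⟨t, ht, rfl⟩, by rw [hφ]; exact hx⟩
  · rintro _ ⟨g, hg, rfl⟩ hgN
    rw [Rank1.mem_normalizer_map hf] at hgN
    obtain ⟨k, t, ht, h1⟩ := h.gen g hg hgN
    exact ⟨k, f t, ⟨t, ht, rfl⟩, by rw [h1]; simp⟩
  · rintro _ ⟨t, ht, rfl⟩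
    have h1 : f c * f t * (f c)⁻¹ = f (c * t * c⁻¹) := by simp
    rw [h1, hφ, hφ]
    exact h.act t ht

/-- a 2-subgroup `T` such that every element of `N(T)` has an odd power in `T` is a Sylow 2-subgroup -/
theorem Rank1.exists_sylow_of_odd [Finite K] {T : Subgroup K} (h2 : IsPGroup 2 T)
    (h : ∀ g ∈ normalizer (T : Set K), ∃ m : ℕ, Odd m ∧ g ^ m ∈ T) : ∃ P : Sylow 2 K, (P : Subgroup K) = T := by
  have : Fact (Nat.Prime 2) := ⟨Nat.prime_two⟩
  obtain ⟨P, hP⟩ := h2.exists_le_sylow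
  refine ⟨P, ?_⟩
  by_contra hne
  have hlt : T < (P : Subgroup K) := lt_of_le_of_ne hP (Ne.symm hne)
  have hnc : NormalizerCondition (P : Subgroup K) := by
    have := P.2.isNilpotent
    exact Group.normalizerCondition_of_isNilpotent
  have h3 : T.subgroupOf (P : Subgroup K) < ⊤ := by
    rw [lt_top_iff_ne_top]
    intro h4
    rw [subgroupOf_eq_top] at h4
    exact hne (le_antisymm h4 hP)
  obtain ⟨x, hx, hxT⟩ := SetLike.exists_of_lt (hnc _ h3)
  apply hxT
  rw [Subgroup.mem_subgroupOf]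
  have hxN : (x : K) ∈ normalizer (T : Set K) := by
    rw [mem_normalizer_iff] at hx ⊢
    intro t
    constructor
    · intro ht
      exact (hx ⟨t, hP ht⟩).1 ht
    · intro ht
      have h5 : t ∈ (P : Subgroup K) := by
        have h6 : t = (x : K)⁻¹ * (x * t * (x : K)⁻¹) * x := by group
        rw [h6]
        exact mul_mem (mul_mem (inv_mem x.2) (hP ht)) x.2
      exact (hx ⟨t, h5⟩).2 ht
  obtain ⟨m, hm, h4⟩ := h x hxN
  obtain ⟨n, hn⟩ := P.2 x
  have hn' : (x : K) ^ 2 ^ n = 1 := by simpa using congrArg Subtype.val hn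
  have hcop : Nat.Coprime m (2 ^ n) := Nat.Coprime.pow_right n (Nat.coprime_two_right.2 hm)
  have h5 : (x : K) ^ (Nat.gcd m (2 ^ n) : ℤ) ∈ T := by
    rw [Nat.gcd_eq_gcd_ab, zpow_add, zpow_mul, zpow_mul]
    refine mul_mem (zpow_mem ?_ _) (zpow_mem ?_ _)
    · rw [zpow_natCast]; exact h4
    · rw [zpow_natCast, hn']; exact T.one_mem
  rw [hcop] at h5
  simpa using h5

/-- an isomorphism `L ≃* K` can be inverted to `f : K → H` with `f(U) = T` for given Sylow 2-subgroups -/
theorem Rank1.exists_transport [Finite H] {L : Subgroup H} (f₀ : L ≃* K) (T : Sylow 2 L) (U : Sylow 2 K) :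
    ∃ f : K →* H, Function.Injective f ∧ (⊤ : Subgroup K).map f = L ∧
      (U : Subgroup K).map f = (T : Subgroup L).map L.subtype := by
  have hp : Fact (Nat.Prime 2) := ⟨Nat.prime_two⟩
  have hfin : Finite K := Finite.of_equiv L f₀.toEquiv
  have hs : Function.Surjective f₀.toMonoidHom := f₀.surjective
  obtain ⟨g, hg⟩ := MulAction.exists_smul_eq K (T.mapSurjective hs) U
  let f : K →* H := L.subtype.comp (f₀.symm.toMonoidHom.comp (MulAut.conj g⁻¹).toMonoidHom)
  have hfv : ∀ y : K, f y = ((f₀.symm (g⁻¹ * y * g) : L) : H) := by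
    intro y
    show ((f₀.symm (MulAut.conj g⁻¹ y) : L) : H) = _
    rw [MulAut.conj_apply, inv_inv]
  have h1 : ∀ y : K, y ∈ (U : Subgroup K) ↔ g⁻¹ * y * g ∈ ((T : Subgroup L).map f₀.toMonoidHom) := by
    intro y
    have h2 : (U : Subgroup K) = MulAut.conj g • (T.mapSurjective hs : Subgroup K) := by
      rw [← hg, Sylow.coe_subgroup_smul]
    rw [h2, Subgroup.mem_pointwise_smul_iff_inv_smul_mem]
    simp [MulAut.smul_def]
  refine ⟨f, L.subtype_injective.comp (f₀.symm.injective.comp (MulAut.conj g⁻¹).injective), ?_, ?_⟩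
  · ext x
    constructor
    · rintro ⟨y, -, rfl⟩
      rw [hfv]
      exact Subtype.property _
    · intro hx
      refine ⟨g * f₀ ⟨x, hx⟩ * g⁻¹, mem_top _, ?_⟩
      rw [hfv]
      have h3 : g⁻¹ * (g * f₀ ⟨x, hx⟩ * g⁻¹) * g = f₀ ⟨x, hx⟩ := by group
      rw [h3, MulEquiv.symm_apply_apply]
  · ext x
    constructor
    · rintro ⟨y, hy, rfl⟩
      obtain ⟨t, ht, hty⟩ := (h1 y).1 hy
      refine ⟨t, ht, ?_⟩
      rw [hfv, ← hty]
      show (t : H) = ((f₀.symm (f₀ t) : L) : H)
      rw [MulEquiv.symm_apply_apply]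
    · rintro ⟨t, ht, rfl⟩
      have h3 : g⁻¹ * (g * f₀ t * g⁻¹) * g = f₀ t := by group
      refine ⟨g * f₀ t * g⁻¹, (h1 _).2 ⟨t, ht, h3.symm⟩, ?_⟩
      rw [hfv, h3, MulEquiv.symm_apply_apply]
      rfl

end map

end Cfsg.Agent.Omega.EH3

end
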